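import Groth.Agent.Lib.SerreCl8.Sub
import Groth.Agent.Lib.QCoh8.Colim

/-!
# Quasi-coherent modules supported in the support of a finitely presented module
-/

universe u

open CategoryTheory Limits AlgebraicGeometry Opposite TopologicalSpace

set_option backward.isDefEq.respectTransparency false

namespace Groth.Agent.SerreCl8

open Groth.Agent.M1

variable {X : Scheme.{u}}

/-- Serre class of quasi-coherent modules closed under direct sums. -/
structure IsLocalizing (P : ObjectProperty X.Modules) : Prop where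
  serre : ∀ S : ShortComplex X.Modules, S.ShortExact → Coh.IsQCoh S.X₁ → Coh.IsQCoh S.X₂ →
    Coh.IsQCoh S.X₃ → (P S.X₂ ↔ P S.X₁ ∧ P S.X₃)
  sum : ∀ (ι : Type u) (M : ι → X.Modules), (∀ i, Coh.IsQCoh (M i)) → (∀ i, P (M i)) → P (∐ M)

namespace IsLocalizing

variable {P : ObjectProperty X.Modules} (hP : IsLocalizing P)

include hP in
theorem of_mono {A B : X.Modules} (f : A ⟶ B) [Mono f] (hA : Coh.IsQCoh A) (hB : Coh.IsQCoh B) (h : P B) :
    P A :=
  ((hP.serre (ShortComplex.mk f (cokernel.π f) (cokernel.condition f))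
    { exact := ShortComplex.exact_cokernel f } hA hB (isQCoh_cokernel hA hB f)).1 h).1

include hP in
theorem of_epi {A B : X.Modules} (f : A ⟶ B) [Epi f] (hA : Coh.IsQCoh A) (hB : Coh.IsQCoh B) (h : P A) :
    P B :=
  ((hP.serre (ShortComplex.mk (kernel.ι f) f (kernel.condition f))
    { exact := ShortComplex.exact_kernel f } (isQCoh_kernel hA hB f) hA hB).1 h).2

include hP in
theorem of_ker_im {A B : X.Modules} (f : A ⟶ B) (hA : Coh.IsQCoh A) (hB : Coh.IsQCoh B)
    (hK : P (kernel f)) (hI : P (Abelian.coimage f)) : P A :=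
  (hP.serre (ShortComplex.mk (kernel.ι f) (cokernel.π (kernel.ι f)) (cokernel.condition _))
    { exact := ShortComplex.exact_cokernel _ } (isQCoh_kernel hA hB f) hA
    (isQCoh_cokernel (isQCoh_kernel hA hB f) hA _)).2 ⟨hK, hI⟩

include hP in
theorem of_mono' {A B : X.Modules} (f : A ⟶ B) (hA : Coh.IsQCoh A) (hB : Coh.IsQCoh B)
    (hK : P (kernel f)) (h : P B) : P A :=
  hP.of_ker_im f hA hB hK (hP.of_mono (Abelian.factorThruCoimage f)
    (isQCoh_cokernel (isQCoh_kernel hA hB f) hA _) hB h)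

include hP in
theorem of_epi' {A B : X.Modules} (f : A ⟶ B) (hA : Coh.IsQCoh A) (hB : Coh.IsQCoh B)
    (hC : P (cokernel f)) (h : P A) : P B :=
  (hP.serre (ShortComplex.mk (Sub.im f).i (cokernel.π f) (kernel.condition _))
    { exact := ShortComplex.exact_kernel _ } (Sub.isQCoh_im f hA hB) hB (isQCoh_cokernel hA hB f)).2
    ⟨hP.of_epi (kernel.lift (cokernel.π f) f (cokernel.condition f)) hA (Sub.isQCoh_im f hA hB) h, hC⟩

end IsLocalizing

theorem isQCoh_sigma {ι : Type u} (M : ι → X.Modules) (h : ∀ i, Coh.IsQCoh (M i)) : Coh.IsQCoh (∐ M) :=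
  M1.isQCoh_of_isColimit (K := Discrete ι) (fun i => h i.as) (coproductIsCoproduct M)

section Step

variable [QuasiSeparatedSpace X] {P : ObjectProperty X.Modules} (hP : IsLocalizing P)
  {F : X.Modules} (hFq : Coh.IsQCoh F) (hF : CohB1.IsFP F) (hPF : P F)
  {U : X.Opens} (hU : IsAffineOpen U) (Z : Set X)
  (H : ∀ E : X.Modules, Coh.IsQCoh E → CohB1.support E ⊆ CohB1.support F \ Z →
    (∀ s : Γ(E, U), s = 0) → P E)

include hP hFq hF hPF hU H in
theorem mem_of_killed {E : X.Modules} (hE : Coh.IsQCoh E) (hs : CohB1.support E ⊆ CohB1.support F \ Z)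
    (hI : ∀ a ∈ Module.annihilator Γ(X, U) Γ(F, U), ∀ s : Γ(E, U), a • s = 0) : P E := by
  classical
  haveI := finitePresentation_sections hF hU
  obtain ⟨n, x, hx⟩ := Module.Finite.exists_fin (R := Γ(X, U)) (M := Γ(F, U))
  let T := Γ(E, U) × ULift.{u} (Fin n)
  let C : X.Modules := ∐ fun _ : T => F
  have hC : Coh.IsQCoh C := isQCoh_sigma _ fun _ => hFq
  have hPC : P C := hP.sum _ _ (fun _ => hFq) (fun _ => hPF)
  let c : T → Γ(C, U) := fun t => (Sigma.ι (fun _ : T => F) t).app U (x t.2.down)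
  let Φ : (Γ(E, U) →₀ Γ(X, U)) →ₗ[Γ(X, U)] (Fin n → Γ(C, U)) :=
    Finsupp.linearCombination Γ(X, U) fun s i => c (s, ⟨i⟩)
  let Ψ : (Γ(E, U) →₀ Γ(X, U)) →ₗ[Γ(X, U)] Γ(E, U) := Finsupp.linearCombination Γ(X, U) id
  have hker : ∀ a, Φ a = 0 → Ψ a = 0 := fun a ha => by
    rw [Finsupp.linearCombination_apply]
    refine Finset.sum_eq_zero fun t _ => hI _ ?_ t
    rw [← Submodule.annihilator_top, ← hx, Submodule.mem_annihilator_span]
    rintro ⟨_, i, rfl⟩
    let π : C ⟶ F := Sigma.desc fun s : T => if s = (t, ⟨i⟩) then 𝟙 F else 0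
    have hπ : ∀ s : T, π.app U (c s) = if s = (t, ⟨i⟩) then x i else 0 := fun s => by
      change π.app U ((Sigma.ι (fun _ : T => F) s).app U (x s.2.down)) = _
      rw [← comp_app_apply, Sigma.ι_desc]
      by_cases h : s = (t, ⟨i⟩)
      · rw [if_pos h, if_pos h, h]; rfl
      · rw [if_neg h, if_neg h]; rfl
    have h1 := congrArg (appₗ π U) (congrFun ha i)
    rw [Finsupp.linearCombination_apply, Finsupp.sum, Finset.sum_apply, map_sum, Pi.zero_apply, map_zero] at h1
    simp only [Pi.smul_apply, map_smul, appₗ_apply, hπ] at h1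
    rw [Finset.sum_eq_single t] at h1
    · simpa using h1
    · intro s _ hst
      rw [if_neg (fun h => hst (congrArg Prod.fst h)), smul_zero]
    · intro ht
      rw [Finsupp.notMem_support_iff.1 ht, zero_smul]
  let B : X.Modules := (∐ fun _ : ULift.{u} (Fin n) => C)
  have hB : Coh.IsQCoh B := isQCoh_sigma _ fun _ => hC
  have hPB : P B := hP.sum _ _ (fun _ => hC) (fun _ => hPC)
  let j : (Fin n → Γ(C, U)) →ₗ[Γ(X, U)] Γ(B, U) :=
    ∑ i, (appₗ (Sigma.ι (fun _ : ULift.{u} (Fin n) => C) ⟨i⟩) U).comp (LinearMap.proj i)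
  have hj : ∀ v, j v = 0 → v = 0 := fun v hv => funext fun i => by
    have h1 := congrArg (appₗ (Sigma.desc fun l : ULift.{u} (Fin n) => if l = ⟨i⟩ then 𝟙 C else 0 : B ⟶ C) U) hv
    rw [map_zero, LinearMap.sum_apply, map_sum] at h1
    rw [Finset.sum_eq_single i] at h1
    · simpa [← comp_app_apply] using h1
    · intro l _ hl
      rw [LinearMap.comp_apply, appₗ_apply, appₗ_apply, ← comp_app_apply, Sigma.ι_desc,
        if_neg (fun h => hl (congrArg ULift.down h))]
      rfl
    · simp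
  let Q : X.Modules := B ⊞ E
  have hQ : Coh.IsQCoh Q := QCoh8.isQCoh_biprod X hB hE
  let L : Submodule Γ(X, U) Γ(Q, U) :=
    LinearMap.range ((appₗ (biprod.inl : B ⟶ Q) U).comp (j.comp Φ) + (appₗ (biprod.inr : E ⟶ Q) U).comp Ψ)
  obtain ⟨p, hpq, hp⟩ := exists_sub hQ hU L
  let f1 : p.P ⟶ B := p.i ≫ biprod.fst
  let f2 : p.P ⟶ E := p.i ≫ biprod.snd
  have hfst : ∀ a b, (biprod.fst : Q ⟶ B).app U
      ((biprod.inl : B ⟶ Q).app U a + (biprod.inr : E ⟶ Q).app U b) = a := fun a b => by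
    rw [map_add, ← comp_app_apply, ← comp_app_apply, biprod.inl_fst, biprod.inr_fst]
    exact add_zero a
  have hsnd : ∀ a b, (biprod.snd : Q ⟶ E).app U
      ((biprod.inl : B ⟶ Q).app U a + (biprod.inr : E ⟶ Q).app U b) = b := fun a b => by
    rw [map_add, ← comp_app_apply, ← comp_app_apply, biprod.inl_snd, biprod.inr_snd]
    exact zero_add b
  have hK : P (kernel f1) := by
    haveI : Mono (kernel.ι f1 ≫ f2) := by
      refine Preadditive.mono_of_cancel_zero _ fun g hg => ?_
      rw [← cancel_mono (kernel.ι f1), ← cancel_mono p.i, zero_comp, zero_comp]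
      apply biprod.hom_ext
      · rw [zero_comp, Category.assoc, Category.assoc]
        exact (congrArg (g ≫ ·) (kernel.condition f1)).trans comp_zero
      · simpa [f2] using hg
    refine H _ (isQCoh_kernel hpq hB f1) ((support_subset_of_mono (kernel.ι f1 ≫ f2)).trans hs) fun a => ?_
    obtain ⟨v, hv⟩ := (hp (p.i.app U ((kernel.ι f1).app U a))).1 ⟨_, rfl⟩
    simp only [LinearMap.add_apply, LinearMap.comp_apply, appₗ_apply] at hv
    have h1 : (kernel.ι f1 ≫ p.i ≫ biprod.fst).app U a = 0 := by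
      rw [kernel.condition f1]; rfl
    rw [comp_app_apply, comp_app_apply, ← hv] at h1
    have h1 := (hfst (j (Φ v)) (Ψ v)).symm.trans h1
    have hΦ : Φ v = 0 := hj _ h1
    have : Mono (kernel.ι f1 ≫ p.i) := mono_comp _ _
    refine app_injective (kernel.ι f1 ≫ p.i) U (((comp_app_apply _ _ _ _).trans hv.symm).trans ?_)
    rw [map_zero]
    change (biprod.inl : B ⟶ Q).app U (j (Φ v)) + (biprod.inr : E ⟶ Q).app U (Ψ v) = 0
    rw [hΦ, hker v hΦ, map_zero, map_zero, map_zero]
    exact add_zero _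
  refine hP.of_epi' f2 hpq hE ?_ (hP.of_mono' f1 hpq hB hK hPB)
  refine H _ (isQCoh_cokernel hpq hE f2) ((support_subset_of_epi (cokernel.π f2)).trans hs) fun q => ?_
  obtain ⟨e, rfl⟩ := app_surjective_affine_of_isQCoh hE (isQCoh_cokernel hpq hE f2) (cokernel.π f2) hU q
  obtain ⟨a, ha⟩ := (hp _).2 ⟨Finsupp.single e 1, rfl⟩
  have h2 : f2.app U a = e := by
    refine ((comp_app_apply _ _ _ _).trans (congrArg ((biprod.snd : Q ⟶ E).app U) ha)).trans
      ((hsnd (j (Φ (Finsupp.single e 1))) (Ψ (Finsupp.single e 1))).trans ?_)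
    simp [Ψ]
  rw [← h2, ← comp_app_apply, cokernel.condition]
  rfl

include hP hFq hF hPF hU H in
theorem step {E : X.Modules} (hE : Coh.IsQCoh E) (hs : CohB1.support E ⊆ CohB1.support F \ Z) : P E := by
  haveI := finitePresentation_sections hF hU
  let I := Module.annihilator Γ(X, U) Γ(F, U)
  let L : ℕ → Submodule Γ(X, U) Γ(E, U) := fun k => ⨅ a ∈ I ^ k, LinearMap.ker (LinearMap.lsmul _ Γ(E, U) a)
  have hL : ∀ k s, s ∈ L k ↔ ∀ a ∈ I ^ k, a • s = 0 := fun k s => by
    simp only [L, Submodule.mem_iInf, LinearMap.mem_ker, LinearMap.lsmul_apply]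
  choose p hpq hp using fun k => exists_sub hE hU (L k)
  have hPk : ∀ k, P (p k).P := fun k => by
    induction k with
    | zero =>
      refine H _ (hpq 0) ((support_subset_of_mono (p 0).i).trans hs) fun a => app_injective (p 0).i U ?_
      rw [map_zero]
      simpa using (hL 0 _).1 ((hp 0 _).1 ⟨a, rfl⟩) 1 (by simp)
    | succ k ih =>
      let g := (p (k + 1)).i ≫ cokernel.π (p k).i
      have hC := isQCoh_cokernel (hpq k) hE (p k).i
      have hKq := isQCoh_kernel (hpq (k + 1)) hC g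
      have h0 : (kernel.ι g ≫ (p (k + 1)).i) ≫ cokernel.π (p k).i = 0 := by
        rw [Category.assoc]; exact kernel.condition g
      haveI : Mono (Abelian.monoLift (p k).i (kernel.ι g ≫ (p (k + 1)).i) h0) :=
        mono_of_mono_fac (Abelian.monoLift_comp (p k).i _ h0)
      have hK : P (kernel g) := hP.of_mono (Abelian.monoLift (p k).i _ h0) hKq (hpq k) ih
      refine hP.of_ker_im g (hpq (k + 1)) hC hK ?_
      have hIq : Coh.IsQCoh (Abelian.coimage g) := isQCoh_cokernel hKq (hpq (k + 1)) _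
      refine mem_of_killed hP hFq hF hPF hU Z H hIq
        ((support_subset_of_epi (Abelian.coimage.π g)).trans ((support_subset_of_mono (p (k + 1)).i).trans hs)) ?_
      intro a ha q
      obtain ⟨b, rfl⟩ := app_surjective_affine_of_isQCoh (hpq (k + 1)) hIq (Abelian.coimage.π g) hU q
      rw [← Scheme.Modules.Hom.app_smul]
      have hb := (hL (k + 1) _).1 ((hp (k + 1) _).1 ⟨b, rfl⟩)
      have hmem : (p k).mem U ((p (k + 1)).i.app U (a • b)) := by
        rw [hp, hL, Scheme.Modules.Hom.app_smul]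
        intro a' ha'
        rw [smul_smul]
        exact hb _ (by rw [pow_succ]; exact Ideal.mul_mem_mul ha' ha)
      rw [Sub.mem_iff_cokernel, ← comp_app_apply] at hmem
      refine app_injective (Abelian.factorThruCoimage g) U ?_
      rw [map_zero, ← comp_app_apply, Abelian.coimage.fac]
      exact hmem
  let S : X.Modules := ∐ fun k : ULift.{u} ℕ => (p k.down).P
  have hS : Coh.IsQCoh S := isQCoh_sigma _ fun k => hpq k.down
  let d : S ⟶ E := Sigma.desc fun k => (p k.down).i
  refine hP.of_epi' d hS hE ?_ (hP.sum _ _ (fun k => hpq k.down) fun k => hPk k.down)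
  refine H _ (isQCoh_cokernel hS hE d) ((support_subset_of_epi (cokernel.π d)).trans hs) fun q => ?_
  obtain ⟨e, rfl⟩ := app_surjective_affine_of_isQCoh hE (isQCoh_cokernel hS hE d) (cokernel.π d) hU q
  obtain ⟨k, hk⟩ := exists_pow_smul_eq_zero (M := Γ(F, U))
    (support_sections_subset hE hFq (hs.trans Set.sdiff_subset) hU) e
  obtain ⟨a, ha⟩ := (hp k e).2 ((hL k e).2 hk)
  have hd : Sigma.ι (fun l : ULift.{u} ℕ => (p l.down).P) ⟨k⟩ ≫ d = (p k).i := Sigma.ι_desc _ _
  rw [← ha, ← hd,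
    ← comp_app_apply, Category.assoc, cokernel.condition, comp_zero]
  rfl

end Step

theorem isZero_mem {P : ObjectProperty X.Modules} (hP : IsLocalizing P) {F E : X.Modules} (hFq : Coh.IsQCoh F)
    (hPF : P F) (hE : Coh.IsQCoh E) (h : IsZero E) : P E :=
  haveI : Mono (0 : E ⟶ F) := ⟨fun _ _ _ => h.eq_of_tgt _ _⟩
  hP.of_mono (0 : E ⟶ F) hE hFq hPF

theorem main [CompactSpace X] [QuasiSeparatedSpace X] (P : ObjectProperty X.Modules) (hP : IsLocalizing P)
    (F : X.Modules) (hFq : Coh.IsQCoh F) (hF : CohB1.IsFP F) (hPF : P F)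
    (E : X.Modules) (hE : Coh.IsQCoh E) (hs : CohB1.support E ⊆ CohB1.support F) : P E := by
  obtain ⟨t, ht⟩ := QCoh8.exists_cover X
  classical
  suffices ∀ (S : Finset X.affineOpens) (E : X.Modules), Coh.IsQCoh E →
      CohB1.support E ⊆ CohB1.support F →
      (∀ x ∈ CohB1.support E, ∃ U ∈ S, x ∈ U.1) → P E from
    this t E hE hs fun x _ => by
      obtain ⟨⟨U, hU⟩, hx⟩ := ht x
      exact ⟨U, hU, hx⟩
  intro S
  induction S using Finset.induction with
  | empty =>
    intro E hE _ h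
    refine isZero_mem hP hFq hPF hE (isZero_of_support_eq_empty (Set.eq_empty_of_forall_notMem fun x hx => ?_))
    obtain ⟨U, hU, -⟩ := h x hx
    simp at hU
  | @insert U S _ ih =>
    intro E hE hs hcov
    refine step hP hFq hF hPF U.2 {x | ¬ (x ∈ U.1 ∨ ∃ V ∈ S, x ∈ V.1)} (fun E' hE' hs' hU' => ?_) hE
      fun x hx => ⟨hs hx, fun h => h ?_⟩
    · refine ih E' hE' (hs'.trans Set.sdiff_subset) fun x hx => ?_
      exact (not_not.1 (hs' hx).2).resolve_left fun hxU => notMem_support_of_sections hE' U.2 hU' hxU hx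
    · obtain ⟨V, hV, hxV⟩ := hcov x hx
      rcases Finset.mem_insert.1 hV with rfl | hV
      · exact Or.inl hxV
      · exact Or.inr ⟨V, hV, hxV⟩

end Groth.Agent.SerreCl8
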