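import Groth.Agent.Lib.ModM1.Sub
import Groth.Agent.Lib.ModM1.Ann
import Groth.Agent.Lib.QCoh8.Basic
import Groth.Agent.Lib.Fitting.More

/-!
# Quasi-coherent submodules with prescribed sections over an affine open; supports
-/

universe u

open CategoryTheory Limits AlgebraicGeometry Opposite TopologicalSpace

set_option backward.isDefEq.respectTransparency false

namespace Groth.Agent.SerreCl8

open Groth.Agent.M1

variable {X : Scheme.{u}}

/-- The linear map on sections. -/
noncomputable def appₗ {M N : X.Modules} (φ : M ⟶ N) (U : X.Opens) : Γ(M, U) →ₗ[Γ(X, U)] Γ(N, U) where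
  toFun := φ.app U
  map_add' := map_add _
  map_smul' r m := φ.app_smul r m

@[simp] theorem appₗ_apply {M N : X.Modules} (φ : M ⟶ N) (U : X.Opens) (m : Γ(M, U)) :
    appₗ φ U m = φ.app U m := rfl

theorem quasiCompact_fromSpec [QuasiSeparatedSpace X] {U : X.Opens} (hU : IsAffineOpen U) :
    QuasiCompact hU.fromSpec :=
  quasiCompact_of_compactSpace hU.fromSpec

set_option maxHeartbeats 1600000 in
theorem exists_tilde_sub {R : CommRingCat.{u}} (M : (Spec R).Modules) (N : ModuleCat.{u} R)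
    (ψ : tilde N ⟶ M) [Mono ψ] (L : Submodule R N) :
    ∃ H : Sub M, H.P.IsQuasicoherent ∧ ∀ s : Γ(M, ⊤),
      H.mem ⊤ s ↔ ∃ t ∈ L, ψ.app ⊤ ((tilde.toOpen N ⊤).hom t) = s := by
  let ι : ModuleCat.of R L ⟶ N := ModuleCat.ofHom L.subtype
  haveI : Mono ι := (ModuleCat.mono_iff_injective _).2 Subtype.val_injective
  haveI : Mono (tilde.map ι) := M1.tilde_map_mono ι
  have hkey : ∀ t : L, (tilde.map ι ≫ ψ).app ⊤ ((tilde.toOpen (ModuleCat.of R L) ⊤).hom t) =
      ψ.app ⊤ ((tilde.toOpen N ⊤).hom (t : N)) := fun t =>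
    congrArg (ψ.app ⊤) (ConcreteCategory.congr_hom (tilde.toOpen_map_app ι ⊤) t)
  refine ⟨⟨_, tilde.map ι ≫ ψ, inferInstance⟩, inferInstanceAs (tilde (ModuleCat.of R L)).IsQuasicoherent, fun s => ?_⟩
  constructor
  · rintro ⟨a, rfl⟩
    obtain ⟨t, ht⟩ := ((ConcreteCategory.isIso_iff_bijective (tilde.toOpen (ModuleCat.of R L) ⊤)).1
      inferInstance).2 a
    refine ⟨t, t.2, ?_⟩
    rw [← ht]
    exact (hkey t).symm
  · rintro ⟨t, ht, rfl⟩
    exact ⟨_, hkey ⟨t, ht⟩⟩

theorem fromTildeΓ_app_toOpen {R : CommRingCat.{u}} (M : (Spec R).Modules) (t : Γ(M, ⊤)) :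
    M.fromTildeΓ.app ⊤ ((tilde.toOpen ((modulesSpecToSheaf.obj M).presheaf.obj (op ⊤)) ⊤).hom t) = t :=
  (ConcreteCategory.congr_hom (Scheme.Modules.toOpen_fromTildeΓ_app M ⊤) t).trans
    (ConcreteCategory.congr_hom ((modulesSpecToSheaf.obj M).1.map_id (op ⊤)) t)

theorem exists_spec_sub {R : CommRingCat.{u}} (M : (Spec R).Modules) [M.IsQuasicoherent]
    (L : Submodule R Γ(M, ⊤)) :
    ∃ H : Sub M, H.P.IsQuasicoherent ∧ ∀ s : Γ(M, ⊤), H.mem ⊤ s ↔ s ∈ L := by
  haveI : IsIso M.fromTildeΓ := Scheme.Modules.isIso_fromTildeΓ_of_isQuasicoherent (R := R) M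
  obtain ⟨H, hq, hH⟩ := exists_tilde_sub M _ M.fromTildeΓ
    { carrier := {s | (s : Γ(M, ⊤)) ∈ L}
      zero_mem' := L.zero_mem
      add_mem' := fun ha hb => L.add_mem ha hb
      smul_mem' := fun r s hs => L.smul_mem r hs }
  refine ⟨H, hq, fun s => (hH s).trans ⟨?_, fun hs => ⟨s, hs, fromTildeΓ_app_toOpen M s⟩⟩⟩
  rintro ⟨t, ht, rfl⟩
  exact (fromTildeΓ_app_toOpen M t).symm ▸ ht

theorem exists_sub [QuasiSeparatedSpace X] {E : X.Modules} (hE : Coh.IsQCoh E) {U : X.Opens}
    (hU : IsAffineOpen U) (L : Submodule Γ(X, U) Γ(E, U)) :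
    ∃ p : Sub E, Coh.IsQCoh p.P ∧ ∀ s : Γ(E, U), p.mem U s ↔ s ∈ L := by
  haveI := quasiCompact_fromSpec hU
  haveI : (E.restrict hU.fromSpec).IsQuasicoherent := isQCoh_fromSpec hE hU
  obtain ⟨H, hq, hH⟩ := exists_spec_sub (R := Γ(X, U)) (E.restrict hU.fromSpec)
    (L.comap (affineSecEquiv E hU).toLinearMap)
  refine ⟨Sub.ext hU.fromSpec H, Sub.isQCoh_ext _ hE H hq, fun s => ?_⟩
  rw [Sub.mem_ext, ← Sub.mem_congr H hU.fromSpec_preimage_self]
  refine Iff.trans (Iff.of_eq (congrArg (H.mem _) ?_)) ((hH ((affineSecEquiv E hU).symm s)).trans ?_)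
  · exact mres_mres E _ _ _
  · rw [Submodule.mem_comap, LinearEquiv.coe_coe, LinearEquiv.apply_symm_apply]

/-! ### Supports -/

theorem stalk_map_injective {M N : X.Modules} (φ : M ⟶ N) [Mono φ] (x : X) :
    Function.Injective ((TopCat.Presheaf.stalkFunctor Ab.{u} x).map φ.mapPresheaf) :=
  (mono_iff_stalk φ).1 inferInstance x

theorem support_subset_of_mono {M N : X.Modules} (φ : M ⟶ N) [Mono φ] :
    CohB1.support M ⊆ CohB1.support N := fun x hx hN => hx ⟨fun a b =>
  stalk_map_injective φ x (@Subsingleton.elim _ hN _ _)⟩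

theorem support_subset_of_epi {M N : X.Modules} (φ : M ⟶ N) [Epi φ] :
    CohB1.support N ⊆ CohB1.support M := fun x hx hM => hx ⟨fun a b => by
  obtain ⟨a, rfl⟩ := (epi_iff_stalk φ).1 inferInstance x a
  obtain ⟨b, rfl⟩ := (epi_iff_stalk φ).1 inferInstance x b
  rw [@Subsingleton.elim _ hM a b]⟩

theorem isZero_of_support_eq_empty {M : X.Modules} (h : CohB1.support M = ∅) : IsZero M := by
  haveI : Mono (0 : M ⟶ M) := (mono_iff_stalk _).2 fun x a b _ => by
    have : Subsingleton (M.presheaf.stalk x) := not_not.1 (Set.eq_empty_iff_forall_notMem.1 h x)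
    exact @Subsingleton.elim _ this a b
  exact IsZero.of_mono_eq_zero (0 : M ⟶ M) rfl

theorem notMem_support_of_sections {M : X.Modules} (hM : Coh.IsQCoh M) {U : X.Opens} (hU : IsAffineOpen U)
    (h : ∀ s : Γ(M, U), s = 0) {x : X} (hx : x ∈ U) : x ∉ CohB1.support M := by
  haveI := hM
  letI := stalkModule M hx
  haveI := isLocalizedModule_germ M hU hx
  rw [notMem_support_iff]
  intro a
  obtain ⟨⟨m, s⟩, hms⟩ := IsLocalizedModule.surj (hU.primeIdealOf ⟨x, hx⟩).asIdeal.primeCompl (germₗ M hx) a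
  rw [h m, map_zero] at hms
  exact ((Module.End.isUnit_iff _).1 (IsLocalizedModule.map_units (germₗ M hx) s)).1
    (show (s : Γ(X, U)) • a = (s : Γ(X, U)) • (0 : M.presheaf.stalk x) by rw [smul_zero]; exact hms)

theorem mem_support_iff_sections {M : X.Modules} (hM : Coh.IsQCoh M) {U : X.Opens} (hU : IsAffineOpen U)
    {x : X} (hx : x ∈ U) :
    hU.primeIdealOf ⟨x, hx⟩ ∈ Module.support Γ(X, U) Γ(M, U) ↔ x ∈ CohB1.support M := by
  haveI := hM
  letI := stalkModule M hx
  haveI := isLocalizedModule_germ M hU hx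
  have e := (IsLocalizedModule.iso (hU.primeIdealOf ⟨x, hx⟩).asIdeal.primeCompl (germₗ M hx)).toEquiv
  rw [Module.mem_support_iff, ← not_subsingleton_iff_nontrivial]
  exact not_congr ⟨fun h => @Equiv.subsingleton _ _ e.symm h, fun h => @Equiv.subsingleton _ _ e h⟩

theorem support_sections_subset {E F : X.Modules} (hE : Coh.IsQCoh E) (hF : Coh.IsQCoh F)
    (h : CohB1.support E ⊆ CohB1.support F) {U : X.Opens} (hU : IsAffineOpen U) :
    Module.support Γ(X, U) Γ(E, U) ⊆ Module.support Γ(X, U) Γ(F, U) := by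
  intro p hp
  have hxU : hU.fromSpec p ∈ U := by
    have := hU.range_fromSpec
    exact this.le ⟨p, rfl⟩
  have he : hU.primeIdealOf ⟨hU.fromSpec p, hxU⟩ = p :=
    hU.fromSpec.isOpenEmbedding.injective (hU.fromSpec_primeIdealOf ⟨_, hxU⟩)
  rw [← he] at hp ⊢
  exact (mem_support_iff_sections hF hU hxU).2 (h ((mem_support_iff_sections hE hU hxU).1 hp))

/-! ### Powers of the annihilator of a finitely presented module -/

theorem exists_fg_ideal {R : Type u} [CommRing R] (M : Type u) [AddCommGroup M] [Module R M]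
    [Module.FinitePresentation R M] :
    ∃ (J : Ideal R) (n : ℕ), J.FG ∧ J ≤ Module.annihilator R M ∧ Module.annihilator R M ^ n ≤ J := by
  obtain ⟨n, x, hx⟩ := FittingLib.exists_generators (R := R) (M := M)
  refine ⟨Fitt.ideal R M 0, n, FittingLib.ideal_fg 0, ?_, ?_⟩
  · rw [FittingLib.ideal_eq_J x hx 0]
    refine Ideal.span_le.2 ?_
    rintro _ ⟨A, S, hS, hA, rfl⟩
    have hS0 : S = ∅ := Finset.card_eq_zero.1 (Nat.le_zero.1 hS)
    rw [SetLike.mem_coe, ← Submodule.annihilator_top, ← hx, Submodule.mem_annihilator_span]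
    rintro ⟨_, j, rfl⟩
    exact (FittingLib.det_mul_smul_eq_zero hA j).trans (by rw [hS0, Finset.sum_empty])
  · rw [FittingLib.ideal_eq_J x hx 0, Submodule.pow_eq_span_pow_set, Submodule.span_le]
    intro a ha
    obtain ⟨f, rfl⟩ := Set.mem_pow.1 ha
    rw [List.prod_ofFn, SetLike.mem_coe, ← Matrix.det_diagonal]
    refine FittingLib.det_mem_J (S := ∅) (Nat.le_refl _) fun i _ => ?_
    rw [FittingLib.mem_rel, Finset.sum_eq_single i]
    · rw [Matrix.diagonal_apply_eq]
      exact Module.mem_annihilator.1 (f i).2 _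
    · exact fun b _ hb => by rw [Matrix.diagonal_apply_ne' _ hb, zero_smul]
    · simp

theorem exists_pow_smul_eq_zero {R : Type u} [CommRing R] {M N : Type u} [AddCommGroup M] [Module R M]
    [AddCommGroup N] [Module R N] [Module.FinitePresentation R M]
    (h : Module.support R N ⊆ Module.support R M) (m : N) :
    ∃ k : ℕ, ∀ a ∈ Module.annihilator R M ^ k, a • m = 0 := by
  obtain ⟨J, n, hfg, hJ, hn⟩ := exists_fg_ideal (R := R) M
  have hrad : J ≤ ((⊥ : Submodule R N).colon {m}).radical := by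
    rw [Ideal.radical_eq_sInf]
    refine le_sInf fun p ⟨hp, hpp⟩ => ?_
    have hN : (⟨p, hpp⟩ : PrimeSpectrum R) ∈ Module.support R N := by
      refine Module.mem_support_iff_exists_annihilator.2 ⟨m, fun a ha => hp ?_⟩
      rw [Submodule.mem_colon_singleton, Submodule.mem_bot]
      exact (Submodule.mem_annihilator_span_singleton m a).1 ha
    have := Module.annihilator_le_of_mem_support (h hN)
    exact hJ.trans this
  obtain ⟨k, hk⟩ := Ideal.exists_pow_le_of_le_radical_of_fg hrad hfg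
  refine ⟨n * k, fun a ha => ?_⟩
  have := hk (Ideal.pow_right_mono hn k ((pow_mul (Module.annihilator R M) n k) ▸ ha))
  rwa [Submodule.mem_colon_singleton, Submodule.mem_bot] at this

end Groth.Agent.SerreCl8
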